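import Cfsg.Agent.H953.HTS.Kill
import Cfsg.Agent.H93.UG.AutCard
import Cfsg.Agent.H530.HT.SmLie
import Cfsg.Agent.H153.ZerosSuz
import Cfsg.Agent.H834.Sax.GTwo
import Cfsg.Agent.H713.Spor.Tool
import Cfsg.Agent.H208.DS.Cent
import Cfsg.Agent.S1694
import Cfsg.Agent.S2074

/-!
# S3512: `G₂(4)`, `Suz`, `p = 3`, `m = 7280` (helper953)
-/

set_option autoImplicit false

universe u w

namespace Cfsg.Agent.H953.HTS

open Subgroup Module Cfsg.Agent.H828.HT Cfsg.Agent.H742.HT Cfsg.Agent.H192.Ht Cfsg.Agent.H953.HTA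

variable {p : ℕ} [hp : Fact p.Prime] {K : Type w} [Field K] {V : Type u} [AddCommGroup V] [Module (ZMod p) V] [Finite V]
    [Module K V] {G L : Subgroup (V ≃ₗ[ZMod p] V)} {h : ℕ}

theorem kill13' (H : QL p K V G L h) (hn : finrank K V = 12) (hq : Nat.card K = 3) (hm : 7280 * h = Nat.card G)
    {o : ℕ} (ho : Nat.card (L ⧸ Subgroup.center L) = o) (hA : Nat.card (MulAut (L ⧸ Subgroup.center L)) ∣ 2 * o)
    (h169 : ¬ 13 ^ 2 ∣ o) (hmod : (o / 13) % 13 = 6)
    (hC : ∃ x : L ⧸ Subgroup.center L, orderOf x = 13 ∧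
      Nat.card (centralizer ({x} : Set (L ⧸ Subgroup.center L))) = 13) : False := by
  have hfin : Finite L := by
    have : Finite (V ≃ₗ[ZMod p] V) := Finite.of_injective (fun f : V ≃ₗ[ZMod p] V => (f : V → V)) DFunLike.coe_injective
    infer_instance
  obtain ⟨x, hx, hCx⟩ := hC
  have hR : Nat.card (zpowers x) = 13 := by rw [Nat.card_zpowers, hx]
  have hCR : Nat.card (centralizer (zpowers x : Set (L ⧸ Subgroup.center L))) = 13 := by
    rw [← hCx]
    congr 2
    rw [zpowers_eq_closure, centralizer_closure]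
  refine kill13 H hn hq hm rfl ?_ (exists_frob (by rwa [ho]) (by rwa [ho]) hR hCR)
  intro h1
  have h2 := h1.trans (QN.card_G_dvd H)
  rw [hq] at h2
  have h3 : 13 ^ 2 ∣ 4 * o := by
    refine h2.trans ((Nat.mul_dvd_mul_left 2 hA).trans ?_)
    rw [← mul_assoc]
    norm_num
  exact h169 (Nat.Coprime.dvd_of_dvd_mul_left (by norm_num) h3)

/-- **`G₂(4)`** -/
theorem g24 (H : QL p K V G L h) (hT : H912.Bd.IsG2 4 (L ⧸ Subgroup.center L)) (hn : finrank K V = 12)
    (hq : Nat.card K = 3) (hm : 7280 * h = Nat.card G) : False := by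
  refine kill13' H hn hq hm (Cfsg.Agent.H530.HT.card_g24 hT) ?_ (by norm_num) (by norm_num) ?_
  · rw [Cfsg.Agent.H93.UG.aut_g24 hT]
  · obtain ⟨F, iF, iT, hF, ⟨e⟩⟩ := hT
    obtain ⟨R, hR, hCR⟩ := Cfsg.Agent.H834.Sax.sc13_g24 hF
    have : Fact (Nat.Prime 13) := ⟨by norm_num⟩
    have hfin : Finite R := Nat.finite_of_card_ne_zero (by rw [hR]; norm_num)
    obtain ⟨x, hx⟩ := exists_prime_orderOf_dvd_card' (G := R) 13 (by rw [hR])
    have hx' : orderOf (x : Cfsg.Lie.chevG2.group F) = 13 := by rw [Subgroup.orderOf_coe, hx]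
    have hRx : zpowers (x : Cfsg.Lie.chevG2.group F) = R := by
      refine Subgroup.eq_of_le_of_card_ge ((zpowers_le).2 x.2) ?_
      rw [Nat.card_zpowers, hx', hR]
    refine ⟨e.symm x, by rw [MulEquiv.orderOf_eq, hx'], ?_⟩
    rw [Cfsg.Agent.H208.DS.card_cent_congr e, e.apply_symm_apply]
    have h1 : centralizer ({(x : Cfsg.Lie.chevG2.group F)} : Set (Cfsg.Lie.chevG2.group F)) = R := by
      rw [← centralizer_closure, ← zpowers_eq_closure, hRx, hCR]
    rw [h1, hR]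

/-- **`Suz`** -/
theorem suz (H : QL p K V G L h) (hT : Spor.IsoSuz (L ⧸ Subgroup.center L)) (hn : finrank K V = 12)
    (hq : Nat.card K = 3) (hm : 7280 * h = Nat.card G) : False := by
  obtain ⟨e⟩ := hT
  have ho : Nat.card Spor.Suz = 448345497600 := S1694.result.2
  have hfin : Finite Spor.Suz := Nat.finite_of_card_ne_zero (by rw [ho]; norm_num)
  refine kill13' H hn hq hm (o := 448345497600) ?_ ?_ (by norm_num) (by norm_num) ?_
  · rw [Nat.card_congr e.toEquiv, ho]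
  · rw [Nat.card_congr (MulAut.congr e).toEquiv]
    have h1 := H713.card_mulAut_dvd (S := Spor.Suz) (o := 2) (by rw [S2074.result])
    rwa [ho] at h1
  · have : Fact (Nat.Prime 13) := ⟨by norm_num⟩
    obtain ⟨x, hx⟩ := exists_prime_orderOf_dvd_card' (G := Spor.Suz) 13 (by rw [ho]; norm_num)
    refine ⟨e.symm x, by rw [MulEquiv.orderOf_eq, hx], ?_⟩
    rw [Cfsg.Agent.H208.DS.card_cent_congr e, e.apply_symm_apply, Cfsg.Agent.H153.Zeros.card_cent_suz hx]

end Cfsg.Agent.H953.HTS
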