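import Cfsg.Agent.H953.HTS.Tools
import Cfsg.Agent.H742.HT.Lift

/-!
# S3512: `G₂(4)`, `Suz`, `p = 3`, `m = 7280` (helper953)
-/

set_option autoImplicit false

universe u w

namespace Cfsg.Agent.H953.HTS

open Subgroup Module Cfsg.Agent.H828.HT Cfsg.Agent.H742.HT Cfsg.Agent.H192.Ht Cfsg.Agent.H953.HTA

variable {p : ℕ} [hp : Fact p.Prime] {K : Type w} [Field K] {V : Type u} [AddCommGroup V] [Module (ZMod p) V] [Finite V]
    [Module K V] {G L : Subgroup (V ≃ₗ[ZMod p] V)} {h : ℕ}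

/-- a Frobenius group `13:3` -/
theorem exists_frob {T : Type u} [Group T] [Finite T] (h169 : ¬ 13 ^ 2 ∣ Nat.card T)
    (hmod : (Nat.card T / 13) % 13 = 6) {R : Subgroup T} (hR : Nat.card R = 13)
    (hC : Nat.card (centralizer (R : Set T)) = 13) :
    ∃ x t : T, ∃ k : ℕ, orderOf x = 13 ∧ t ^ 3 = 1 ∧ t * x * t⁻¹ = x ^ k ∧ t * x ≠ x * t := by
  have hr : Fact (Nat.Prime 13) := ⟨by norm_num⟩
  have h3 : Fact (Nat.Prime 3) := ⟨by norm_num⟩
  obtain ⟨x, hx⟩ := exists_prime_orderOf_dvd_card' (G := R) 13 (by rw [hR])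
  have hx' : orderOf (x : T) = 13 := by rw [Subgroup.orderOf_coe, hx]
  have hRx : zpowers (x : T) = R := by
    refine Subgroup.eq_of_le_of_card_ge ((zpowers_le).2 x.2) ?_
    rw [Nat.card_zpowers, hx', hR]
  have h1 := Cfsg.Agent.H428.SylNorm.card_normalizer_dvd hr.out hR
  have h13 : 13 ∣ Nat.card T := by rw [← hR]; exact card_subgroup_dvd_card R
  obtain ⟨e, he⟩ : 13 ∣ Nat.card (normalizer (R : Set T)) := by
    conv_lhs => rw [← hR]
    exact card_dvd_of_le le_normalizer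
  have h2 : e ∣ 12 := by
    rw [hC, he] at h1
    exact Nat.dvd_of_mul_dvd_mul_left (by norm_num) h1
  have h5 : (Nat.card T).factorization 13 = 1 := by
    have h6 := (hr.out.dvd_iff_one_le_factorization Nat.card_pos.ne').1 h13
    have h7 : ¬ 2 ≤ (Nat.card T).factorization 13 := fun h8 =>
      h169 ((hr.out.pow_dvd_iff_le_factorization Nat.card_pos.ne').2 h8)
    omega
  let SQ : Sylow 13 T := Sylow.ofCard R (by rw [hR, h5, pow_one])
  have h6 := mod_eq SQ he (lt_of_le_of_lt (Nat.le_of_dvd (by norm_num) h2) (by norm_num))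
  rw [hmod] at h6
  obtain ⟨t, ht⟩ := exists_prime_orderOf_dvd_card' (G := normalizer (R : Set T)) 3 (by
    rw [he, ← h6]; norm_num)
  have ht3 : orderOf (t : T) = 3 := by rw [Subgroup.orderOf_coe, ht]
  have h7 : (t : T) * x * (t : T)⁻¹ ∈ zpowers (x : T) := by
    rw [hRx]
    exact (mem_normalizer_iff.1 t.2 x).1 x.2
  obtain ⟨k, hk⟩ := mem_powers_iff_mem_zpowers.2 h7
  refine ⟨x, t, k, hx', by rw [← ht3, pow_orderOf_eq_one], hk.symm, ?_⟩
  intro hc
  have h8 : (t : T) ∈ centralizer (R : Set T) := by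
    rw [mem_centralizer_iff]
    intro y hy
    have hy' : y ∈ zpowers (x : T) := by rw [hRx]; exact hy
    obtain ⟨j, rfl⟩ := hy'
    exact ((show Commute (t : T) x from hc).zpow_right j).symm
  have h9 : orderOf (⟨(t : T), h8⟩ : centralizer (R : Set T)) ∣ Nat.card (centralizer (R : Set T)) :=
    orderOf_dvd_natCard _
  rw [hC, Subgroup.orderOf_mk, ht3] at h9
  exact absurd h9 (by norm_num)

theorem kill13 (H : QL p K V G L h) (hn : finrank K V = 12) (hq : Nat.card K = 3) {m : ℕ} (hm : m * h = Nat.card G)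
    (hm7 : m = 7280) (h169 : ¬ 13 ^ 2 ∣ Nat.card G)
    (hfr : ∃ x t : L ⧸ Subgroup.center L, ∃ k : ℕ, orderOf x = 13 ∧ t ^ 3 = 1 ∧ t * x * t⁻¹ = x ^ k ∧ t * x ≠ x * t) :
    False := by
  have hp3 : p = 3 := by
    obtain ⟨k, hk, -⟩ := QN.exists_card H
    rw [hq] at hk
    exact (Nat.prime_eq_prime_of_dvd_pow (m := k) Nat.prime_three hp.out (by rw [← hk])).symm
  subst hp3
  subst hm7
  have hV : Nat.card V = 3 ^ 12 := by rw [QN.card_V H, hq, hn]
  have hfin : Finite L := by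
    have : Finite (V ≃ₗ[ZMod 3] V) := Finite.of_injective (fun f : V ≃ₗ[ZMod 3] V => (f : V → V)) DFunLike.coe_injective
    infer_instance
  have hr : Fact (Nat.Prime 13) := ⟨by norm_num⟩
  obtain ⟨v, hv⟩ := QN.exists_ne H
  have h0 : 0 < h := Cfsg.Agent.H19.HT.h_pos H.half hv
  obtain ⟨x, t, k, hx, ht, hxt, hne⟩ := hfr
  have hc13 : Nat.Coprime 13 (Nat.card (Subgroup.center L)) :=
    Lift.coprime_center H (by norm_num) (by rw [hn]; norm_num)
  have hc3 : Nat.Coprime 3 (Nat.card (Subgroup.center L)) :=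
    Lift.coprime_center H (by norm_num) (by rw [hq]; norm_num)
  obtain ⟨a, ha, hax⟩ := Lift.lift_pow hc13 x (by rw [← hx, pow_orderOf_eq_one])
  obtain ⟨b, hb, hbt⟩ := Lift.lift_pow hc3 t ht
  have hab : b * a * b⁻¹ = a ^ k := Lift.lift_rel hc13 ha (by rw [hax, hbt]; exact hxt)
  have ha1 : a ≠ 1 := by
    rintro rfl
    rw [QuotientGroup.mk_one] at hax
    rw [← hax, orderOf_one] at hx
    omega
  have hba : b * a ≠ a * b := by
    intro h1
    apply hne
    rw [← hax, ← hbt, ← QuotientGroup.mk_mul, h1, QuotientGroup.mk_mul]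
  have h13 : ¬ 13 ∣ h := by
    rintro ⟨j, rfl⟩
    apply h169
    rw [← hm]
    exact ⟨560 * j, by ring⟩
  have hfpf : ∀ w : V, (a : V ≃ₗ[ZMod 3] V) w = w → w = 0 := fun w hw =>
    fpf_of_not_dvd H.half h13 (H.le a.2) (by rw [← Subgroup.coe_pow, ha]; rfl) (fun h1 => ha1 (Subtype.ext h1)) hw
  obtain ⟨c, hc, hc1, -⟩ := frob' H (by norm_num : Nat.Prime 13) (by norm_num) ha ha1 hab (e := 3) (by norm_num) hb (by
    intro j hj hj3
    have hj' : j = 1 ∨ j = 2 := by omega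
    rcases hj' with rfl | rfl
    · rw [pow_one]; exact hba
    · intro h1
      apply hba
      have h2 : Commute (b ^ 2) a := h1
      have h3 : b = b ^ 2 * b ^ 2 := by
        rw [← pow_add]
        show b = b ^ (3 + 1)
        rw [pow_add, hb, one_mul, pow_one]
      rw [h3]
      exact (h2.mul_left h2).eq) hfpf
  have hc4 : c = 4 := by omega
  have h4 := Fus.fus_fx H.half h0 hm (i := 73) (by rw [hV]; norm_num) (s := 3) (by norm_num) (H.le b.2) (k := 1) (by
    rw [pow_one, ← Subgroup.coe_pow, hb]; rfl)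
  rw [hc1, hq, hc4] at h4
  norm_num at h4

end Cfsg.Agent.H953.HTS
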