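import Cfsg.Agent.H953.HTS.Tools
import Cfsg.Agent.H208.DS.Cent

/-!
# S3512: `M23`, `M24`, `p = 2`, `m = 315` (helper953)
-/

set_option autoImplicit false

universe u w

namespace Cfsg.Agent.H953.HTS

open Subgroup Cfsg.Agent.H828.HT Cfsg.Agent.H742.HT Cfsg.Agent.H192.Ht Cfsg.Agent.H953.HTA

variable {p : ℕ} [hp : Fact p.Prime] {K : Type w} [Field K] {V : Type u} [AddCommGroup V] [Module (ZMod p) V] [Finite V]
    [Module K V] {G L : Subgroup (V ≃ₗ[ZMod p] V)} {h : ℕ}

/-- the numerical check -/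
theorem num_of_check {m r o : ℕ} (hm : 0 < m)
    (hc : ∀ d ∈ Nat.divisors m, d ≠ 1 → d * (o / d) = o → ¬ (o / d / r) % r ∣ (o / r) % r) :
    ∀ d, d ∣ m → d ≠ 1 → ∀ k, d * k = o → ¬ (k / r) % r ∣ (o / r) % r := by
  intro d hd hd1 k hk
  have hdk : k = o / d := by
    rw [← hk, Nat.mul_div_cancel_left _ (Nat.pos_of_dvd_of_pos hd hm)]
  have h1 := hc d (Nat.mem_divisors.2 ⟨hd, hm.ne'⟩) hd1 (by rw [← hdk, hk])
  rwa [← hdk] at h1

/-- no vector stabilizer of index dividing `m` -/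
theorem kill_index (H : QL p K V G L h) {m : ℕ} (hm : m * h = Nat.card G) {r : ℕ} [hr : Fact r.Prime]
    (hrm : ¬ r ∣ m) {o : ℕ} (ho : Nat.card L = o) (h1 : r ∣ o) (h2 : ¬ r ^ 2 ∣ o)
    (hC : ∀ y : L, orderOf y = r → Nat.card (centralizer ({y} : Set L)) = r)
    (hnum : ∀ d, d ∣ m → d ≠ 1 → ∀ k, d * k = o → ¬ (k / r) % r ∣ (o / r) % r) : False := by
  obtain ⟨v, hv⟩ := QN.exists_ne H
  obtain ⟨d, hd, hdk⟩ := exists_mul H hm hv
  have h3 : r ∣ Nat.card (MulAction.stabilizer L v) := by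
    have h4 : r ∣ d * Nat.card (MulAction.stabilizer L v) := by rw [hdk, ho]; exact h1
    rcases (hr.out.dvd_mul).1 h4 with h5 | h5
    · exact absurd (h5.trans hd) hrm
    · exact h5
  have h4 := mod_dvd (by rw [ho]; exact h2) hC (MulAction.stabilizer L v) h3
  rw [ho] at h4
  by_cases hd1 : d = 1
  · rw [hd1, one_mul] at hdk
    have h5 : MulAction.stabilizer L v = ⊤ := Subgroup.eq_top_of_card_eq _ hdk
    refine no_fixed H hv fun l hl => ?_
    have h6 : (⟨l, hl⟩ : L) ∈ MulAction.stabilizer L v := by rw [h5]; trivial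
    exact h6
  · exact hnum d hd hd1 _ (by rw [hdk, ho]) h4

theorem m24 (H : QL p K V G L h) (hS : Spor.IsoM24 (L ⧸ Subgroup.center L)) (hK : Nat.card K = 2)
    (hm : 315 * h = Nat.card G) : False := by
  have hc := center_bot H hK
  obtain ⟨e⟩ := exists_equiv (L := L) hc
  obtain ⟨f⟩ := hS
  have hS' : Spor.IsoM24 L := ⟨e.trans f⟩
  have ho : Nat.card L = 244823040 := by
    rw [Nat.card_congr (e.trans f).toEquiv]
    exact Cfsg.Agent.SporadicA.M24Trans.card_M24
  have : Fact (Nat.Prime 23) := ⟨by norm_num⟩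
  refine kill_index H hm (r := 23) (by norm_num) ho (by norm_num) (by norm_num)
    (fun y hy => Cfsg.Agent.H208.DS.cent_m24 hS' hy) ?_
  exact num_of_check (by norm_num) (by decide +kernel)

theorem m23 (H : QL p K V G L h) (hS : Spor.IsoM23 (L ⧸ Subgroup.center L)) (hK : Nat.card K = 2)
    (hm : 315 * h = Nat.card G) : False := by
  have hc := center_bot H hK
  obtain ⟨e⟩ := exists_equiv (L := L) hc
  obtain ⟨f⟩ := hS
  have hS' : Spor.IsoM23 L := ⟨e.trans f⟩
  have ho : Nat.card L = 10200960 := by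
    rw [Nat.card_congr (e.trans f).toEquiv]
    exact Cfsg.Agent.SporadicA.MathieuRecog.card_M23
  have : Fact (Nat.Prime 23) := ⟨by norm_num⟩
  refine kill_index H hm (r := 23) (by norm_num) ho (by norm_num) (by norm_num)
    (fun y hy => Cfsg.Agent.H208.DS.cent_m23 hS' hy) ?_
  exact num_of_check (by norm_num) (by decide +kernel)

end Cfsg.Agent.H953.HTS
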