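import Cfsg.Agent.H953.HTA.G
import Cfsg.Agent.H428.SylNorm.Eight

/-!
# S3512: tools for the sporadic rows (helper953)

* `mod_dvd` : if `r` divides `|G|` exactly once and centralizers of elements of order `r` have order `r`, then for every
  subgroup `H` with `r ∣ |H|`, `(|H| / r) % r` divides `(|G| / r) % r`.
* `no_fixed` : `L` fixes no nonzero vector.
* `center_bot` : over `𝔽₂` the centre of `L` is trivial.
* `exists_mul` : the stabilizers in `L` have index dividing `m`.
-/

set_option autoImplicit false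

universe u w

namespace Cfsg.Agent.H953.HTS

open Subgroup

section Grp

variable {G : Type u} [Group G] [Finite G] {r : ℕ} [hr : Fact r.Prime]

theorem mod_eq (P : Sylow r G) {e : ℕ} (hN : Nat.card (normalizer ((P : Subgroup G) : Set G)) = r * e) (he : e < r) :
    (Nat.card G / r) % r = e := by
  have h1 : Nat.card (Sylow r G) ≡ 1 [MOD r] := card_sylow_modEq_one r G
  rw [P.card_eq_index_normalizer] at h1
  have h2 := (normalizer ((P : Subgroup G) : Set G)).index_mul_card
  rw [hN] at h2
  have h3 : Nat.card G / r = (normalizer ((P : Subgroup G) : Set G)).index * e := by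
    rw [← h2, show (normalizer ((P : Subgroup G) : Set G)).index * (r * e) =
      r * ((normalizer ((P : Subgroup G) : Set G)).index * e) by ring, Nat.mul_div_cancel_left _ hr.out.pos]
  rw [h3]
  have h4 := h1.mul_right e
  rw [one_mul] at h4
  exact Eq.trans h4 (Nat.mod_eq_of_lt he)

theorem exists_e (hC : ∀ y : G, orderOf y = r → Nat.card (centralizer ({y} : Set G)) = r) {P : Subgroup G}
    (hP : Nat.card P = r) : ∃ e, 0 < e ∧ e < r ∧ e ∣ r - 1 ∧ Nat.card (normalizer (P : Set G)) = r * e := by
  have h1 := Cfsg.Agent.H428.SylNorm.card_normalizer_dvd hr.out hP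
  obtain ⟨y, hy⟩ : ∃ y : P, orderOf y = r := by
    obtain ⟨y, hy⟩ := exists_prime_orderOf_dvd_card' (G := P) r (by rw [hP])
    exact ⟨y, hy⟩
  have hy' : orderOf (y : G) = r := by rw [Subgroup.orderOf_coe, hy]
  have h2 : Nat.card (centralizer (P : Set G)) ∣ r := by
    rw [← hC y hy']
    refine card_dvd_of_le (centralizer_le ?_)
    rw [Set.singleton_subset_iff]
    exact y.2
  have h3 : r ∣ Nat.card (normalizer (P : Set G)) := by
    conv_lhs => rw [← hP]
    exact card_dvd_of_le le_normalizer
  obtain ⟨e, he⟩ := h3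
  have h4 : r * e ∣ r * (r - 1) := by
    rw [← he]
    exact h1.trans (Nat.mul_dvd_mul_right h2 _)
  have h5 : e ∣ r - 1 := Nat.dvd_of_mul_dvd_mul_left hr.out.pos h4
  have h6 := hr.out.two_le
  have h7 : 0 < e := by
    rcases Nat.eq_zero_or_pos e with h0 | h0
    · rw [h0, mul_zero] at he
      exact absurd he Nat.card_pos.ne'
    · exact h0
  have h8 := Nat.le_of_dvd (by omega) h5
  exact ⟨e, h7, by omega, h5, he⟩

theorem mod_dvd (h2 : ¬ r ^ 2 ∣ Nat.card G) (hC : ∀ y : G, orderOf y = r → Nat.card (centralizer ({y} : Set G)) = r)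
    (H : Subgroup G) (hH : r ∣ Nat.card H) : (Nat.card H / r) % r ∣ (Nat.card G / r) % r := by
  obtain ⟨y, hy⟩ := exists_prime_orderOf_dvd_card' (G := H) r hH
  let PH : Subgroup H := zpowers y
  have hPH : Nat.card PH = r := by rw [Nat.card_zpowers, hy]
  let Q : Subgroup G := PH.map H.subtype
  have hQ : Nat.card Q = r := by
    rw [← hPH]
    exact Nat.card_congr (PH.equivMapOfInjective H.subtype H.subtype_injective).symm.toEquiv
  have hf : ∀ {X : Type u} [Group X] [Finite X], r ∣ Nat.card X → ¬ r ^ 2 ∣ Nat.card X →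
      r ^ (Nat.card X).factorization r = r := by
    intro X _ _ h3 h4
    have h5 : (Nat.card X).factorization r = 1 := by
      have h6 := (hr.out.dvd_iff_one_le_factorization Nat.card_pos.ne').1 h3
      have h7 : ¬ 2 ≤ (Nat.card X).factorization r := fun h8 =>
        h4 ((hr.out.pow_dvd_iff_le_factorization Nat.card_pos.ne').2 h8)
      omega
    rw [h5, pow_one]
  have hHG : Nat.card H ∣ Nat.card G := card_subgroup_dvd_card H
  let SQ : Sylow r G := Sylow.ofCard Q (by rw [hQ, hf (hH.trans hHG) h2])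
  let SP : Sylow r H := Sylow.ofCard PH (by rw [hPH, hf hH fun h3 => h2 (h3.trans hHG)])
  obtain ⟨e, he0, he, -, heN⟩ := exists_e hC hQ
  have hCH : ∀ y : H, orderOf y = r → Nat.card (centralizer ({y} : Set H)) = r := by
    intro y hy
    have h3 : Nat.card (centralizer ({y} : Set H)) ∣ r := by
      rw [← hC y (by rw [Subgroup.orderOf_coe, hy])]
      have h4 : (centralizer ({y} : Set H)).map H.subtype ≤ centralizer ({(y : G)} : Set G) := by
        rintro _ ⟨x, hx, rfl⟩
        rw [mem_centralizer_singleton_iff]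
        exact congrArg Subtype.val (mem_centralizer_singleton_iff.1 hx)
      rw [Nat.card_congr ((centralizer ({y} : Set H)).equivMapOfInjective H.subtype H.subtype_injective).toEquiv]
      exact card_dvd_of_le h4
    have h5 : r ∣ Nat.card (centralizer ({y} : Set H)) := by
      have h6 : zpowers y ≤ centralizer ({y} : Set H) := by
        rw [zpowers_le, mem_centralizer_singleton_iff]
      have h7 := card_dvd_of_le h6
      rwa [Nat.card_zpowers, hy] at h7
    exact Nat.dvd_antisymm h3 h5
  obtain ⟨f, hf0, hf1, -, hfN⟩ := exists_e hCH hPH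
  have e1 : (Nat.card G / r) % r = e := mod_eq SQ heN he
  have e2 : (Nat.card H / r) % r = f := mod_eq SP hfN hf1
  rw [e1, e2]
  have h8 : (normalizer (PH : Set H)).map H.subtype ≤ normalizer (Q : Set G) := by
    rintro _ ⟨x, hx0, rfl⟩
    have hx := mem_normalizer_iff.1 (SetLike.mem_coe.1 hx0)
    rw [mem_normalizer_iff]
    intro g
    constructor
    · rintro ⟨z, hz, rfl⟩
      exact ⟨x * z * x⁻¹, (hx z).1 hz, rfl⟩
    · rintro ⟨z, hz, hzg⟩
      have h9 : x * (x⁻¹ * z * x) * x⁻¹ = z := by group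
      refine ⟨x⁻¹ * z * x, (hx _).2 (by rw [h9]; exact hz), ?_⟩
      have h10 : (z : G) = x * g * (x : G)⁻¹ := hzg
      show (x : G)⁻¹ * z * x = g
      rw [h10]
      group
  have h9 := card_dvd_of_le h8
  rw [← Nat.card_congr ((normalizer (PH : Set H)).equivMapOfInjective H.subtype H.subtype_injective).toEquiv, hfN,
    heN] at h9
  exact Nat.dvd_of_mul_dvd_mul_left hr.out.pos h9

end Grp

section Lin

open Cfsg.Agent.H828.HT Cfsg.Agent.H742.HT Cfsg.Agent.H192.Ht Cfsg.Agent.H953.HTA

variable {p : ℕ} [hp : Fact p.Prime] {K : Type w} [Field K] {V : Type u} [AddCommGroup V] [Module (ZMod p) V] [Finite V]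
    [Module K V] {G L : Subgroup (V ≃ₗ[ZMod p] V)} {h : ℕ}

theorem no_fixed (H : QL p K V G L h) {v : V} (hv : v ≠ 0) (hfix : ∀ l ∈ L, l v = v) : False := by
  let W : Submodule (ZMod p) V :=
    { carrier := {w | ∀ l ∈ L, l w = w}
      add_mem' := fun {a b} ha hb l hl => by rw [map_add, ha l hl, hb l hl]
      zero_mem' := fun l _ => map_zero l
      smul_mem' := fun c x hx l hl => by rw [map_smul, hx l hl] }
  obtain ⟨a, ha, b, -, hab⟩ := H.nonab
  rcases H.irr W (fun l hl w hw => by rw [hw l hl]; exact hw) with h1 | h1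
  · apply hv
    rw [← Submodule.mem_bot (ZMod p), ← h1]
    exact hfix
  · apply hab
    have h2 : a = 1 := by
      ext w
      have hw : w ∈ W := by rw [h1]; trivial
      exact hw a ha
    rw [h2, one_mul, mul_one]

theorem center_bot (H : QL p K V G L h) (hK : Nat.card K = 2) : Subgroup.center L = ⊥ := by
  rw [eq_bot_iff]
  intro k hk
  rw [Subgroup.mem_bot]
  obtain ⟨c, hc⟩ := center_scalar H hk
  have h0 : ∀ c : K, c = 0 ∨ c = 1 := by
    have hF : Finite K := Nat.finite_of_card_ne_zero (by rw [hK]; norm_num)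
    intro c
    by_contra hcon
    push Not at hcon
    have h1 : ({0, 1, c} : Set K).ncard ≤ Nat.card K := Set.ncard_le_card _
    rw [Set.ncard_insert_of_notMem (by simp [eq_comm, hcon.1]), Set.ncard_pair hcon.2.symm, hK] at h1
    omega
  apply act_injective H
  rw [map_one]
  apply LinearMap.ext
  intro v
  rw [hc]
  rcases h0 c with h1 | h1
  · exfalso
    obtain ⟨w, hw⟩ := QN.exists_ne H
    have h2 : act H k w = 0 := by rw [hc, h1, zero_smul]
    apply hw
    have h3 : (k : V ≃ₗ[ZMod p] V) w = 0 := h2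
    exact (map_eq_zero_iff _ (k : V ≃ₗ[ZMod p] V).injective).1 h3
  · rw [h1, one_smul]
    rfl

theorem exists_mul (H : QL p K V G L h) {m : ℕ} (hm : m * h = Nat.card G) {v : V} (hv : v ≠ 0) :
    ∃ d, d ∣ m ∧ d * Nat.card (MulAction.stabilizer L v) = Nat.card L := by
  classical
  have h0 : 0 < h := Cfsg.Agent.H19.HT.h_pos H.half hv
  refine ⟨_, orbit_normal_dvd_m H.half h0 hm L H.le H.nrm hv, ?_⟩
  have h4 := MulAction.card_orbit_mul_card_stabilizer_eq_card_group L v
  rwa [← Nat.card_eq_fintype_card, ← Nat.card_eq_fintype_card, ← Nat.card_eq_fintype_card] at h4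

/-- `L` is `T` over `𝔽₂` -/
theorem exists_equiv (hc : Subgroup.center L = ⊥) : Nonempty (L ≃* L ⧸ Subgroup.center L) :=
  ⟨MulEquiv.ofBijective (QuotientGroup.mk' (Subgroup.center L)) ⟨(injective_iff_map_eq_one _).2 fun k hk => by
    rw [QuotientGroup.mk'_apply, QuotientGroup.eq_one_iff, hc] at hk
    exact Subgroup.mem_bot.1 hk, QuotientGroup.mk'_surjective _⟩⟩

end Lin

end Cfsg.Agent.H953.HTS
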